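import Cfsg.Agent.H795.SetCent

/-!
# Perfect subgroups of the centraliser of a set of torus elements (helper185)

`H : Tow cs h p T n X` with coordinates `C`, `Z ⊆ TL T` finite, consisting of `l`-elements: every perfect subgroup of the
centraliser of `Z` lies in `MMZ`, the group generated by the root groups centralised by `Z` (`perfect_leZ`).
-/

set_option autoImplicit false
set_option linter.unusedSectionVars false

namespace Cfsg.Agent.H185.EE

open CoxeterSystem Cfsg.Agent.ChevalleyStructure.CoxeterGeom Cfsg.Agent.Tits.Roots Cfsg.Agent.Tits.Core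
  Cfsg.Agent.Tits.RootComb Cfsg.Agent.Tits.Exchange Cfsg.Agent.Nodes.Reps Cfsg.Agent.Nodes.BNOf
  Cfsg.Agent.Nodes.StabComb Cfsg.Agent.Nodes.Bruhat Cfsg.Agent.Nodes.OppDec Cfsg.Agent.Nodes.LeviDec
  Cfsg.Agent.Nodes.NormalForm Cfsg.Agent.Nodes.SubComb Cfsg.Agent.Nodes.Coroot Cfsg.Agent.KFacts.RgdField
  Cfsg.Agent.BpExc.TorCent Cfsg.Agent.BpExc.Tow Cfsg.Agent.BpExc.Fr Cfsg.Agent.BpExc.Pair Cfsg.Agent.H795.SetCent
open scoped commutatorElement

variable {I W Y : Type*} [Fintype I] [DecidableEq I] [Group W] [Group Y] {M : CoxeterMatrix I}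
  {cs : CoxeterSystem M W} {A : I → I → ℤ} {h : IsCartan M A} {p : ℕ} {F : Type*} [Field F]

theorem rep_mem_SxZ {χ : (I → ℤ) → Y → F} {Z : Set Y} {w : W} (hw : w ∈ CW cs h χ Z) {a : I → ℤ}
    (ha : a ∈ SxZ cs h χ Z) : rep cs h w a ∈ SxZ cs h χ Z :=
  ⟨ha.1.act w, fun t ht => by rw [hw a ha.1 t ht, ha.2 t ht]⟩

/-- the elements of `CW` preserving the positive roots of `SxZ` -/
def PPZ (cs : CoxeterSystem M W) (h : IsCartan M A) (χ : (I → ℤ) → Y → F) (Z : Set Y) [Finite W] : Subgroup W where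
  carrier := {w | w ∈ CW cs h χ Z ∧ ∀ a ∈ SxZ cs h χ Z, 0 ≤ a → 0 ≤ rep cs h w a}
  one_mem' := ⟨one_mem _, fun a _ h0 => by rwa [map_one, Module.End.one_apply]⟩
  mul_mem' := by
    rintro v w ⟨h1, h2⟩ ⟨h3, h4⟩
    refine ⟨mul_mem h1 h3, fun a ha h0 => ?_⟩
    rw [rep_mul_apply]
    exact h2 _ (rep_mem_SxZ h3 ha) (h4 a ha h0)
  inv_mem' := by
    rintro w ⟨h1, h2⟩
    have key : ∀ m : ℕ, w ^ m ∈ CW cs h χ Z ∧ ∀ a ∈ SxZ cs h χ Z, 0 ≤ a → 0 ≤ rep cs h (w ^ m) a := by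
      intro m
      induction m with
      | zero => rw [pow_zero]; exact ⟨one_mem _, fun a _ h0 => by rwa [map_one, Module.End.one_apply]⟩
      | succ m ih =>
        refine ⟨pow_mem h1 _, fun a ha h0 => ?_⟩
        rw [pow_succ', rep_mul_apply]
        exact h2 _ (rep_mem_SxZ ih.1 ha) (ih.2 a ha h0)
    have h3 : w⁻¹ = w ^ (orderOf w - 1) := by
      rw [inv_eq_iff_mul_eq_one, ← pow_succ', Nat.sub_add_cancel (orderOf_pos w), pow_orderOf_eq_one]
    rw [h3]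
    exact key _

theorem mem_PPZ [Finite W] {χ : (I → ℤ) → Y → F} {Z : Set Y} {w : W} :
    w ∈ PPZ cs h χ Z ↔ w ∈ CW cs h χ Z ∧ ∀ a ∈ SxZ cs h χ Z, 0 ≤ a → 0 ≤ rep cs h w a := Iff.rfl

section Lim

variable {J : Type*} [Preorder J] {T : J → Subgroup Y} {n : I → Y} {X : J → (I → ℤ) → Subgroup Y}
  (H : Tow cs h p T n X) {xx : (I → ℤ) → F → Y} {χ : (I → ℤ) → Y → F}
  (C : Coords cs h (TL T) n (XL X) xx χ)

include C in
/-- **`PPZ` is an `l`-group.** -/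
theorem isPGroup_PPZ [Finite W] (hA : ChAdd cs h (TL T) χ) {Z : Set Y} (hZ : Z ⊆ TL T) {l : ℕ} (hl : l.Prime)
    (hZl : ∀ t ∈ Z, ∃ m : ℕ, t ^ l ^ m = 1) {w : W} (hw : w ∈ PPZ cs h χ Z) : ∃ m : ℕ, w ^ l ^ m = 1 := by
  have h1 : ∀ q : ℕ, q.Prime → q ∣ orderOf w → q = l := by
    intro q hq hd
    obtain ⟨c, hc⟩ := hd
    have hc0 : c ≠ 0 := by
      rintro rfl
      rw [mul_zero] at hc
      exact (orderOf_pos w).ne' hc
    have h2 : orderOf (w ^ c) = q := by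
      rw [orderOf_pow_of_dvd hc0 ⟨q, by rw [hc, mul_comm]⟩, hc, Nat.mul_div_cancel _ (Nat.pos_of_ne_zero hc0)]
    have h3 : w ^ c ∈ PPZ cs h χ Z := pow_mem hw c
    exact prime_of_PPZ C hA hZ hl hZl h3.1 h3.2 hq h2
  have h2 : ∃ m : ℕ, orderOf w = l ^ m :=
    ⟨(orderOf w).primeFactorsList.length, Nat.eq_prime_pow_of_unique_prime_dvd (orderOf_pos w).ne' (fun {d} hd hdd => h1 d hd hdd)⟩
  obtain ⟨m, hm⟩ := h2
  exact ⟨m, by rw [← hm]; exact pow_orderOf_eq_one w⟩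

include H C in
/-- **The form of the elements of the centraliser.** -/
theorem exists_formPZ [Finite W] (hG : GG cs h (TL T) (XL X) = ⊤) (hA : ChAdd cs h (TL T) χ) {Z : Set Y}
    (hfin : Z.Finite) (hZ : Z ⊆ TL T) {c : Y} (hc : ∀ t ∈ Z, c * t = t * c) :
    ∃ m ∈ MMZ cs h (XL X) χ Z, ∃ w ∈ PPZ cs h χ Z, ∃ k, Rp cs H.nsys w k ∧ (∀ t ∈ Z, k * t = t * k) ∧ c = m * k := by
  obtain ⟨m, hm, w, k, hk, hkZ, e⟩ := exists_form_centralizer H C hG hfin hZ hc
  obtain ⟨v, ⟨m', hm', hv'⟩, hv⟩ := exists_adjustZ H C hA hZ w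
  have hm'Z : ∀ t ∈ Z, m' * t = t * m' := fun t ht =>
    ((Subgroup.mem_centralizer_iff.1 (MMZ_le_centralizer C hZ hm')) t ht).symm
  have hkm : ∀ t ∈ Z, (k * m') * t = t * (k * m') := by
    intro t ht
    rw [mul_assoc, hm'Z t ht, ← mul_assoc, hkZ t ht, mul_assoc]
  have hrp := hk.mul hv'
  have h1 : (k * m') * m'⁻¹ * (k * m')⁻¹ ∈ MMZ cs h (XL X) χ Z := by
    have h2 := MMZ_conj H C (ι := Z) (s := fun i => (i : Y)) (t := fun i => (i : Y)) (fun i => hZ i.2) hrp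
      (fun i => hkm i i.2) (y := m'⁻¹) (by rw [Subtype.range_coe]; exact inv_mem hm')
    rwa [Subtype.range_coe] at h2
  refine ⟨m * ((k * m') * m'⁻¹ * (k * m')⁻¹), mul_mem hm h1, w * v, ⟨mem_CW_of_comm H C hZ hrp hkm, hv⟩, k * m', hrp,
    hkm, ?_⟩
  rw [e]
  group

include H C in
/-- **Perfect subgroups of the centraliser.** -/
theorem perfect_leZ [Finite W] (hG : GG cs h (TL T) (XL X) = ⊤) (hTc : ∀ s ∈ TL T, ∀ t ∈ TL T, s * t = t * s)
    (hA : ChAdd cs h (TL T) χ) {Z : Set Y} (hfin : Z.Finite) (hZ : Z ⊆ TL T) {l : ℕ} (hl : l.Prime)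
    (hZl : ∀ t ∈ Z, ∃ m : ℕ, t ^ l ^ m = 1) {L : Subgroup Y} (hL : ⁅L, L⁆ = L) (hLZ : ∀ x ∈ L, ∀ t ∈ Z, x * t = t * x) :
    L ≤ MMZ cs h (XL X) χ Z := by
  have hlf : Fact l.Prime := ⟨hl⟩
  have hMc : MMZ cs h (XL X) χ Z ≤ Subgroup.centralizer Z := MMZ_le_centralizer C hZ
  have hTZ : TL T ≤ Subgroup.centralizer Z := fun s hs =>
    Subgroup.mem_centralizer_iff.2 fun t ht => (hTc s hs t (hZ ht)).symm
  have hLC : L ≤ Subgroup.centralizer Z := fun x hx =>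
    Subgroup.mem_centralizer_iff.2 fun t ht => (hLZ x hx t ht).symm
  have hcomm : ∀ {c : Y}, c ∈ Subgroup.centralizer Z → ∀ t ∈ Z, c * t = t * c := fun hc t ht =>
    (Subgroup.mem_centralizer_iff.1 hc t ht).symm
  -- representatives normalise `MMZ`
  have hkM : ∀ {w : W} {k : Y}, Rp cs H.nsys w k → (∀ t ∈ Z, k * t = t * k) →
      k ∈ Subgroup.normalizer (MMZ cs h (XL X) χ Z : Set Y) := by
    have key : ∀ {w : W} {k : Y}, Rp cs H.nsys w k → (∀ t ∈ Z, k * t = t * k) → ∀ y ∈ MMZ cs h (XL X) χ Z,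
        k * y * k⁻¹ ∈ MMZ cs h (XL X) χ Z := by
      intro w k hk hkZ y hy
      have h2 := MMZ_conj H C (ι := Z) (s := fun i => (i : Y)) (t := fun i => (i : Y)) (fun i => hZ i.2) hk
        (fun i => hkZ i i.2) (y := y) (by rw [Subtype.range_coe]; exact hy)
      rwa [Subtype.range_coe] at h2
    intro w k hk hkZ
    rw [Subgroup.mem_normalizer_iff]
    intro y
    refine ⟨key hk hkZ y, fun hy => ?_⟩
    have h1 := key hk.inv (fun t ht => by
      have := hkZ t ht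
      calc k⁻¹ * t = k⁻¹ * (t * k) * k⁻¹ := by group
        _ = t * k⁻¹ := by rw [← this]; group) _ hy
    have h2 : k⁻¹ * (k * y * k⁻¹) * k⁻¹⁻¹ = y := by group
    rwa [h2] at h1
  have hTM : TL T ≤ Subgroup.normalizer (MMZ cs h (XL X) χ Z : Set Y) := fun s hs =>
    hkM (rp_of_mem (cs := cs) (hN := H.nsys) hs) (hcomm (hTZ hs))
  have hkN : ∀ {w : W} {k : Y}, Rp cs H.nsys w k → (∀ t ∈ Z, k * t = t * k) →
      k ∈ Subgroup.normalizer ((MMZ cs h (XL X) χ Z ⊔ TL T : Subgroup Y) : Set Y) := by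
    intro w k hk hkZ
    rw [mem_normalizer_iff_cj, cj_sup, mem_normalizer_iff_cj.1 (hkM hk hkZ), mem_normalizer_iff_cj.1 hk.mem_normalizer]
  have hCN : Subgroup.centralizer Z ≤
      Subgroup.normalizer ((MMZ cs h (XL X) χ Z ⊔ TL T : Subgroup Y) : Set Y) := by
    intro c hc
    obtain ⟨m, hm, w, -, k, hk, hkZ, rfl⟩ := exists_formPZ H C hG hA hfin hZ (hcomm hc)
    exact mul_mem (Subgroup.le_normalizer (Subgroup.mem_sup_left hm)) (hkN hk hkZ)
  have h1 : L ≤ MMZ cs h (XL X) χ Z ⊔ TL T := by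
    refine le_of_perfect hCN (fun hn => ?_) hLC hL
    -- finite
    have hfinQ : Finite (↥(Subgroup.centralizer Z) ⧸ (MMZ cs h (XL X) χ Z ⊔ TL T).subgroupOf
        (Subgroup.centralizer Z)) := by
      let R : Type _ := {w : W // ∃ k, Rp cs H.nsys w k ∧ ∀ t ∈ Z, k * t = t * k}
      refine Finite.of_surjective (α := R) (fun r => QuotientGroup.mk ⟨r.2.choose, Subgroup.mem_centralizer_iff.2
        fun t ht => (r.2.choose_spec.2 t ht).symm⟩) ?_
      intro q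
      obtain ⟨⟨g, hg⟩, rfl⟩ := QuotientGroup.mk_surjective q
      obtain ⟨m, hm, w, -, k, hk, hkZ, e⟩ := exists_formPZ H C hG hA hfin hZ (hcomm hg)
      have hr : ∃ k, Rp cs H.nsys w k ∧ ∀ t ∈ Z, k * t = t * k := ⟨k, hk, hkZ⟩
      refine ⟨⟨w, hr⟩, ?_⟩
      rw [QuotientGroup.eq, Subgroup.mem_subgroupOf]
      show hr.choose⁻¹ * g ∈ _
      have h2 := hr.choose_spec
      have h3 : hr.choose⁻¹ * k ∈ TL T := h2.1.unique hk
      have h4 : k⁻¹ * m * k ∈ MMZ cs h (XL X) χ Z := by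
        have := (Subgroup.mem_normalizer_iff.1 (inv_mem (hkM hk hkZ)) m).1 hm
        rwa [inv_inv] at this
      have h5 : hr.choose⁻¹ * g = (hr.choose⁻¹ * k) * (k⁻¹ * m * k) := by rw [e]; group
      rw [h5]
      exact mul_mem (Subgroup.mem_sup_right h3) (Subgroup.mem_sup_left h4)
    have hp : IsPGroup l (↥(Subgroup.centralizer Z) ⧸ (MMZ cs h (XL X) χ Z ⊔ TL T).subgroupOf
        (Subgroup.centralizer Z)) := by
      intro q
      obtain ⟨⟨g, hg⟩, rfl⟩ := QuotientGroup.mk_surjective q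
      obtain ⟨m, hm, w, hw, k, hk, hkZ, e⟩ := exists_formPZ H C hG hA hfin hZ (hcomm hg)
      obtain ⟨a, ha⟩ := isPGroup_PPZ C hA hZ hl hZl hw
      refine ⟨a, ?_⟩
      have hkC : k ∈ Subgroup.centralizer Z := Subgroup.mem_centralizer_iff.2 fun t ht => (hkZ t ht).symm
      have h2 : (QuotientGroup.mk ⟨g, hg⟩ : ↥(Subgroup.centralizer Z) ⧸ (MMZ cs h (XL X) χ Z ⊔ TL T).subgroupOf
        (Subgroup.centralizer Z)) = QuotientGroup.mk ⟨k, hkC⟩ := by
        rw [QuotientGroup.eq, Subgroup.mem_subgroupOf]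
        show g⁻¹ * k ∈ _
        have h4 : k⁻¹ * m⁻¹ * k ∈ MMZ cs h (XL X) χ Z := by
          have := (Subgroup.mem_normalizer_iff.1 (inv_mem (hkM hk hkZ)) m⁻¹).1 (inv_mem hm)
          rwa [inv_inv] at this
        have h5 : g⁻¹ * k = k⁻¹ * m⁻¹ * k := by rw [e]; group
        rw [h5]
        exact Subgroup.mem_sup_left h4
      rw [h2, ← QuotientGroup.mk_pow, QuotientGroup.eq_one_iff, Subgroup.mem_subgroupOf]
      show k ^ l ^ a ∈ _
      have h3 : ∀ j : ℕ, Rp cs H.nsys (w ^ j) (k ^ j) := by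
        intro j
        induction j with
        | zero => rw [pow_zero, pow_zero]; exact rp_one
        | succ j ih => rw [pow_succ, pow_succ]; exact ih.mul hk
      have h4 := h3 (l ^ a)
      rw [ha] at h4
      exact Subgroup.mem_sup_right h4.mem_of_one
    have := hp.isNilpotent
    infer_instance
  refine le_of_perfect (C := MMZ cs h (XL X) χ Z ⊔ TL T) (sup_le Subgroup.le_normalizer hTM) (fun hn => ?_) h1 hL
  -- the quotient is an image of `TL T`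
  have hcomm' : ∀ a b : ↥(MMZ cs h (XL X) χ Z ⊔ TL T) ⧸ (MMZ cs h (XL X) χ Z).subgroupOf
      (MMZ cs h (XL X) χ Z ⊔ TL T), a * b = b * a := by
    have key : ∀ a : ↥(MMZ cs h (XL X) χ Z ⊔ TL T) ⧸ (MMZ cs h (XL X) χ Z).subgroupOf (MMZ cs h (XL X) χ Z ⊔ TL T),
        ∃ t : Y, ∃ ht : t ∈ TL T, a = QuotientGroup.mk ⟨t, Subgroup.mem_sup_right ht⟩ := by
      intro a
      obtain ⟨⟨g, hg⟩, rfl⟩ := QuotientGroup.mk_surjective a
      have hg' : g ∈ ((MMZ cs h (XL X) χ Z ⊔ TL T : Subgroup Y) : Set Y) := hg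
      rw [Subgroup.coe_mul_of_right_le_normalizer_left _ _ hTM, Set.mem_mul] at hg'
      obtain ⟨m, hm, t, ht, rfl⟩ := hg'
      refine ⟨t, ht, ?_⟩
      rw [QuotientGroup.eq_iff_div_mem, Subgroup.mem_subgroupOf]
      rw [Subgroup.coe_div, mul_div_cancel_right]
      exact hm
    intro a b
    obtain ⟨s, hs, rfl⟩ := key a
    obtain ⟨t, ht, rfl⟩ := key b
    rw [← QuotientGroup.mk_mul, ← QuotientGroup.mk_mul]
    congr 1
    exact Subtype.ext (hTc s hs t ht)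
  let _ : CommGroup (↥(MMZ cs h (XL X) χ Z ⊔ TL T) ⧸ (MMZ cs h (XL X) χ Z).subgroupOf
      (MMZ cs h (XL X) χ Z ⊔ TL T)) :=
    { (inferInstance : Group (↥(MMZ cs h (XL X) χ Z ⊔ TL T) ⧸ (MMZ cs h (XL X) χ Z).subgroupOf
        (MMZ cs h (XL X) χ Z ⊔ TL T))) with
      mul_comm := hcomm' }
  infer_instance

end Lim

end Cfsg.Agent.H185.EE
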