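import Cfsg.Agent.H185.EE.Lat
import Cfsg.Agent.H185.EE.PerfSet

/-!
# Hyperplanes of the 5-torus of `E₈(2)` and the perfect groups centralising them (helper185, S3384 piece G5)

* `card_E5` : `|E5| = 625`; `cX_w8`, `cX_pow5`, `pow5` : `E5` is elementary abelian and `w8` acts as 2 on the characters;
* `range_of_trivial` : a lattice vector trivial on `E5` lies in `(w8 - 2) ℤ⁸`; roots are not;
* `cent_hyp` : `H ≤ E5` of order 125, `1 ≠ L` perfect, centralising `H`: `H` is the kernel of a root `a` and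
  `L ≤ ⟨X_{±a}, X_{± w8 a}⟩`.
-/

set_option autoImplicit false
set_option linter.unusedSectionVars false

namespace Cfsg.Agent.H185.EE

open CoxeterSystem Subgroup Cfsg Cfsg.Lie Cfsg.Lie.ChevalleyDatum
open Cfsg.Agent.ChevalleyStructure Cfsg.Agent.ChevalleyStructure.Elts Cfsg.Agent.ChevalleyStructure.CoxeterGeom
  Cfsg.Agent.ChevalleyStructure.CoxeterGeomTypes Cfsg.Agent.ChevalleyStructure.NPerm
open Cfsg.Agent.Tits.Roots Cfsg.Agent.Tits.Core Cfsg.Agent.Nodes Cfsg.Agent.Nodes.SubComb Cfsg.Agent.Nodes.Reps Cfsg.Agent.Nodes.BNOf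
  Cfsg.Agent.Nodes.RGDChev Cfsg.Agent.Nodes.Bruhat Cfsg.Agent.Nodes.Coroot
open Cfsg.Agent.KFacts.RgdField Cfsg.Agent.KFacts.RgdChevCoord Cfsg.Agent.BpExc.TorCent Cfsg.Agent.BpExc.TorChev
open Cfsg.Agent.GpExc.Field Cfsg.Agent.BpExc.Tow Cfsg.Agent.BpExc.TowChev Cfsg.Agent.BpExc.Fr
  Cfsg.Agent.BpExc.LangFr Cfsg.Agent.BpExc.FamField Cfsg.Agent.BpExc.FamInst Cfsg.Agent.H129.TorusChar
  Cfsg.Agent.H795.LangT Cfsg.Agent.BpExc.FamExt Cfsg.Agent.BpExc.FamUntw Cfsg.Agent.H378.TorDual Cfsg.Agent.H378.TorChar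
  Cfsg.Agent.H378.TorFin Cfsg.Agent.H378.RankOne Cfsg.Agent.H378.RootTor
open Cfsg.Agent.H865.EE

/-! ### the torus -/

section Tor

variable {k : Type} [Field k] [CharP k 2] [IsAlgClosed k] [PerfectRing k 2] (hk : LocFin k)

theorem coe_tchar {t : ↥(chevE8.group k)} (ht : t ∈ TT chevE8 k) (x : Fin 8 → ℤ) :
    ((tchar tp8 ⟨t, ht⟩ (Multiplicative.ofAdd x) : kˣ) : k) = cX tp8 t x := by
  show ((lat (fun i => uch tp8 i ⟨t, ht⟩) (Multiplicative.ofAdd x) : kˣ) : k) = _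
  rw [lat_apply, Units.coe_prod]
  unfold cX
  refine Finset.prod_congr rfl fun i _ => ?_
  rw [Units.val_zpow_eq_zpow_val, coe_uch]

theorem mem_TT_of_mem {t : ↥(chevE8.group k)} (ht : t ∈ E5 k) : t ∈ TT chevE8 k := ht.1

theorem mem_E5 {t : ↥(chevE8.group k)} : t ∈ E5 k ↔ t ∈ TwT chevE8 k 2 1 (nu tp8 k w8) := Iff.rfl

theorem E5_eq : E5 k = TwT chevE8 k 2 1 (nu tp8 k w8) := Subgroup.ext fun _ => mem_E5

include hk in
theorem mem_TwV_iff (v : W8) {t : ↥(chevE8.group k)} (ht : t ∈ TT chevE8 k) :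
    t ∈ TwT chevE8 k 2 1 (nu tp8 k v) ↔ tchar tp8 ⟨t, ht⟩ ∈ KerOf k (fV v) :=
  mem_TwT_iff tp8 cs8 2 hk (nu_rp tp8 hk v) ht

include hk in
theorem twEquivV (v : W8) : ∃ e : ↥(TwT chevE8 k 2 1 (nu tp8 k v)) ≃* ↥(KerOf k (fV v)),
    ∀ t, (e t).1 = tchar tp8 ⟨t.1, t.2.1⟩ :=
  twEquiv tp8 cs8 2 hk inv_E8 one_ne_zero (nu_rp tp8 hk v) (m := 1)

include hk in
theorem mem_E5_iff0 (v : W8) (hv : w8 = v) {t : ↥(chevE8.group k)} (ht : t ∈ TT chevE8 k) :
    t ∈ E5 k ↔ tchar tp8 ⟨t, ht⟩ ∈ KerOf k (fV v) := by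
  rw [mem_E5, hv]
  exact mem_TwV_iff hk v ht

include hk in
theorem mem_E5_iff {t : ↥(chevE8.group k)} (ht : t ∈ TT chevE8 k) :
    t ∈ E5 k ↔ tchar tp8 ⟨t, ht⟩ ∈ KerOf k (fV w8) := mem_E5_iff0 hk w8 rfl ht

include hk in
theorem cX_fE {t : ↥(chevE8.group k)} (ht : t ∈ E5 k) (x : Fin 8 → ℤ) : cX tp8 t (fE x) = 1 := by
  have h1 := (mem_E5_iff hk ht.1).1 ht
  have h2 := (mem_kerOf k).1 h1 x
  exact (coe_tchar ht.1 (fV w8 x)).symm.trans (congrArg (fun u : kˣ => (u : k)) h2)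

include hk in
theorem cX_w8 {t : ↥(chevE8.group k)} (ht : t ∈ E5 k) (x : Fin 8 → ℤ) :
    cX tp8 t (act w8 x) = cX tp8 t x ^ 2 := by
  have h1 := cX_fE hk ht x
  have h3 := isMC_cX tp8 ht.1
  rw [fE_apply, h3.sub, div_eq_one_iff_eq (h3.ne_zero _), h3.zsmul] at h1
  rw [h1]
  norm_cast

include hk in
theorem cX_pow5 {t : ↥(chevE8.group k)} (ht : t ∈ E5 k) (x : Fin 8 → ℤ) : cX tp8 t x ^ 5 = 1 := by
  have h1 := cX_w8 hk ht (act w8 x)
  rw [w8_sq, cX_w8 hk ht x, (isMC_cX tp8 ht.1).neg] at h1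
  have h2 := (isMC_cX tp8 ht.1).ne_zero x
  calc cX tp8 t x ^ 5 = (cX tp8 t x ^ 2) ^ 2 * cX tp8 t x := by ring
    _ = 1 := by rw [← h1, inv_mul_cancel₀ h2]

include hk in
theorem pow5 {t : ↥(chevE8.group k)} (ht : t ∈ E5 k) : t ^ 5 = 1 := by
  refine cX_inj tp8 (pow_mem ht.1 5) (one_mem _) fun i => ?_
  rw [cX_pow tp8 ht.1, cX_one, cX_pow5 hk ht]

theorem det_ne (k : Type) [Field k] [CharP k 2] : ((LinearMap.det fE : ℤ) : k) ≠ 0 := by
  intro h
  rw [CharP.intCast_eq_zero_iff k 2] at h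
  have h1 := det_fE
  omega

include hk in
/-- **`|E5| = 625`.** -/
theorem card_E5 : Nat.card ↥(E5 k) = 625 := by
  obtain ⟨e, -⟩ := twEquivV hk w8
  rw [E5_eq, Nat.card_congr e.toEquiv]
  exact (card_kerOf k (det_ne k)).trans det_fE

include hk in
/-- the lattice vectors trivial on `E5` -/
theorem range_of_trivial {x : Fin 8 → ℤ} (h : ∀ t ∈ E5 k, cX tp8 t x = 1) : ∃ y, fE y = x := by
  rw [← eq_one_on_iff k (det_ne k)]
  intro φ hφ
  obtain ⟨e, he⟩ := twEquivV hk w8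
  obtain ⟨t, ht⟩ := e.surjective ⟨φ, hφ⟩
  have h1 := he t
  rw [ht] at h1
  apply Units.ext
  have h2 : ((φ (Multiplicative.ofAdd x) : kˣ) : k) = cX tp8 t.1 x := by
    rw [← coe_tchar t.2.1]
    exact congrArg (fun ψ : Ch 8 k => ((ψ (Multiplicative.ofAdd x) : kˣ) : k)) h1
  rw [h2, h t.1 t.2]
  rfl

/-- the kernel of a lattice vector in `E5` -/
def KX (k : Type) [Field k] [CharP k 2] [IsAlgClosed k] [PerfectRing k 2] (x : Fin 8 → ℤ) :
    Subgroup ↥(chevE8.group k) where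
  carrier := {t | t ∈ E5 k ∧ cX tp8 t x = 1}
  one_mem' := ⟨one_mem _, cX_one tp8 x⟩
  mul_mem' := by
    rintro s t ⟨h1, h2⟩ ⟨h3, h4⟩
    exact ⟨mul_mem h1 h3, by rw [cX_mul tp8 h1.1 h3.1, h2, h4, one_mul]⟩
  inv_mem' := by
    rintro s ⟨h1, h2⟩
    refine ⟨inv_mem h1, ?_⟩
    have h3 := cX_mul tp8 h1.1 (inv_mem h1.1) x
    rw [mul_inv_cancel, cX_one, h2, one_mul] at h3
    exact h3.symm

theorem mem_KX {x : Fin 8 → ℤ} {t : ↥(chevE8.group k)} : t ∈ KX k x ↔ t ∈ E5 k ∧ cX tp8 t x = 1 := Iff.rfl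

include hk in
theorem KX_root_ne {a : Fin 8 → ℤ} (ha : Rt a) : KX k a ≠ E5 k := by
  intro h
  obtain ⟨y, hy⟩ := range_of_trivial hk (x := a) fun t ht => by
    rw [← h] at ht
    exact ht.2
  exact root_ne_fE ha hy.symm

include hk in
/-- a subgroup of order 125 contained in the kernel of `x` is the kernel, or `x` is trivial -/
theorem KX_dich {H : Subgroup ↥(chevE8.group k)} (hH1 : Nat.card H = 125) {K : Subgroup ↥(chevE8.group k)}
    (hHK : H ≤ K) (hK : K ≤ E5 k) : H = K ∨ K = E5 k := by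
  have h625 := card_E5 hk
  have hfE : Finite ↥(E5 k) := Nat.finite_of_card_ne_zero (by rw [h625]; norm_num)
  have hfK : Finite ↥K := Finite.of_injective (Subgroup.inclusion hK) (Subgroup.inclusion_injective hK)
  have h1 : Nat.card K ∣ 625 := by
    rw [← h625]
    exact Subgroup.card_dvd_of_le hK
  have h2 : 125 ∣ Nat.card K := by
    rw [← hH1]
    exact Subgroup.card_dvd_of_le hHK
  obtain ⟨m, hm⟩ := h2
  rw [hm] at h1
  have h3 : m ∣ 5 := by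
    have : 125 * m ∣ 125 * 5 := by simpa using h1
    exact Nat.dvd_of_mul_dvd_mul_left (by norm_num) this
  rcases (Nat.dvd_prime (by norm_num : Nat.Prime 5)).1 h3 with h4 | h4
  · left
    exact Subgroup.eq_of_le_of_card_ge hHK (by rw [hm, h4, hH1])
  · right
    exact Subgroup.eq_of_le_of_card_ge hK (by rw [hm, h4, h625])

include hk in
/-- the kernel of a root containing `H` is `H` -/
theorem eq_KX {H : Subgroup ↥(chevE8.group k)} (hH : H ≤ E5 k) (hH1 : Nat.card H = 125) {a : Fin 8 → ℤ} (ha : Rt a)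
    (h : ∀ t ∈ H, cX tp8 t a = 1) : H = KX k a := by
  rcases KX_dich hk hH1 (K := KX k a) (fun t ht => ⟨hH ht, h t ht⟩) (fun t ht => ht.1) with h1 | h1
  · exact h1
  · exact absurd h1 (KX_root_ne hk ha)

include hk in
/-- **The roots trivial on a subgroup of order 125.** -/
theorem roots_unique {H : Subgroup ↥(chevE8.group k)} (hH : H ≤ E5 k) (hH1 : Nat.card H = 125) {a b : Fin 8 → ℤ}
    (ha : Rt a) (h : ∀ t ∈ H, cX tp8 t a = 1) (hb : Rt b) (h' : ∀ t ∈ H, cX tp8 t b = 1) :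
    b ∈ ({a, -a, act w8 a, -act w8 a} : Set (Fin 8 → ℤ)) := by
  have hKa := eq_KX hk hH hH1 ha h
  have hKb := eq_KX hk hH hH1 hb h'
  obtain ⟨e, heE, heH⟩ : ∃ e ∈ E5 k, e ∉ H := by
    by_contra hcon
    push Not at hcon
    refine KX_root_ne hk ha ?_
    rw [← hKa]
    exact le_antisymm hH hcon
  have hζ1 : cX tp8 e a ≠ 1 := fun h1 => heH (by rw [hKa]; exact ⟨heE, h1⟩)
  have hη1 : cX tp8 e b ≠ 1 := fun h1 => heH (by rw [hKb]; exact ⟨heE, h1⟩)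
  have hmc := isMC_cX tp8 heE.1
  have hζ5 := cX_pow5 hk heE a
  have hη5 := cX_pow5 hk heE b
  have hprim : IsPrimitiveRoot (cX tp8 e a) 5 := by
    have : Fact (Nat.Prime 5) := ⟨by norm_num⟩
    rw [← orderOf_eq_prime hζ5 hζ1]
    exact IsPrimitiveRoot.orderOf _
  obtain ⟨i, hi, hie⟩ := hprim.eq_pow_of_pow_eq_one hη5
  -- a root of the list with the same value at `e`
  have key : ∀ c : Fin 8 → ℤ, Rt c → (∀ t ∈ E5 k, t ∈ H → cX tp8 t c = 1) → cX tp8 e c = cX tp8 e b → b = c := by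
    intro c hc hcH hce
    have h1 : H ≤ KX k (b - c) := by
      intro t ht
      refine ⟨hH ht, ?_⟩
      rw [(isMC_cX tp8 (hH ht).1).sub, h' t ht, hcH t (hH ht) ht, div_one]
    have h2 : e ∈ KX k (b - c) := by
      refine ⟨heE, ?_⟩
      rw [hmc.sub, hce, div_self (hmc.ne_zero b)]
    rcases KX_dich hk hH1 h1 (fun t ht => ht.1) with h3 | h3
    · rw [← h3] at h2
      exact absurd h2 heH
    · obtain ⟨y, hy⟩ := range_of_trivial hk (x := b - c) fun t ht => by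
        rw [← h3] at ht
        exact ht.2
      exact eq_of_sub_eq hb hc hy.symm
  have hw : Rt (act w8 a) := rt_act ha w8
  have hz0 := hmc.ne_zero a
  have t1 : ∀ t ∈ E5 k, t ∈ H → cX tp8 t (-a) = 1 := fun t ht htH => by
    rw [(isMC_cX tp8 ht.1).neg, h t htH, inv_one]
  have t2 : ∀ t ∈ E5 k, t ∈ H → cX tp8 t (act w8 a) = 1 := fun t ht htH => by
    rw [cX_w8 hk ht, h t htH, one_pow]
  have t3 : ∀ t ∈ E5 k, t ∈ H → cX tp8 t (-act w8 a) = 1 := fun t ht htH => by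
    rw [(isMC_cX tp8 ht.1).neg, t2 t ht htH, inv_one]
  have e4 : cX tp8 e (-a) = cX tp8 e a ^ 4 := by
    rw [hmc.neg]
    exact inv_eq_of_mul_eq_one_right (by rw [← pow_succ']; exact hζ5)
  have e3 : cX tp8 e (-act w8 a) = cX tp8 e a ^ 3 := by
    rw [hmc.neg, cX_w8 hk heE]
    exact inv_eq_of_mul_eq_one_right (by rw [← pow_add]; exact hζ5)
  simp only [Set.mem_insert_iff, Set.mem_singleton_iff]
  have hi' : i = 0 ∨ i = 1 ∨ i = 2 ∨ i = 3 ∨ i = 4 := by omega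
  rcases hi' with rfl | rfl | rfl | rfl | rfl
  · rw [pow_zero] at hie
    exact absurd hie.symm hη1
  · rw [pow_one] at hie
    exact Or.inl (key a ha (fun t _ ht => h t ht) hie)
  · exact Or.inr (Or.inr (Or.inl (key _ hw t2 (by rw [cX_w8 hk heE, hie]))))
  · exact Or.inr (Or.inr (Or.inr (key _ hw.neg t3 (by rw [e3, hie]))))
  · exact Or.inr (Or.inl (key _ ha.neg t1 (by rw [e4, hie])))

include hk in
/-- **Perfect subgroups of the centraliser of a subgroup of `E5`.** -/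
theorem perfect_le {H L : Subgroup ↥(chevE8.group k)} (hH : H ≤ E5 k) (hL : ⁅L, L⁆ = L)
    (hLH : ∀ x ∈ L, ∀ h ∈ H, x * h = h * x) {S : Set (Fin 8 → ℤ)}
    (hS : ∀ a, Rt a → (∀ t ∈ H, cX tp8 t a = 1) → a ∈ S) : L ≤ KK k S := by
  have Hh := tow tp8 cs8 hk 2
  have hC : Coords cs8 tp8.isCartan (TL (Tj tp8 (k := k))) (nc tp8 k) (XL (Xj tp8)) (xc tp8) (ch tp8) := by
    rw [TL_eq tp8 hk, XL_eq tp8 hk]
    exact coordsL tp8 cs8 hk 2
  have hTL := TL_eq (k := k) tp8 hk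
  have h625 := card_E5 hk
  have hfE : Finite ↥(E5 k) := Nat.finite_of_card_ne_zero (by rw [h625]; norm_num)
  have hfin : (H : Set ↥(chevE8.group k)).Finite :=
    Set.Finite.subset (Set.toFinite (E5 k : Set ↥(chevE8.group k))) hH
  have h1 := perfect_leZ Hh hC (GG_eq_top tp8 cs8 hk) (by rw [hTL]; exact TT_comm tp8)
    (by rw [hTL]; exact chAddL tp8 cs8 hk 2) hfin (by rw [hTL]; exact fun t ht => (hH ht).1)
    (by norm_num : Nat.Prime 5) (fun t ht => ⟨1, by rw [pow_one]; exact pow5 hk (hH ht)⟩) hL hLH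
  refine h1.trans ?_
  refine RGD.Sup_le fun a ha => ?_
  intro y hy
  obtain ⟨c, rfl⟩ := ((hC.coord a ha.1).mem y).1 hy
  exact Subgroup.subset_closure ⟨a, hS a ha.1 fun t ht => by
    rw [cX_root tp8 cs8 (hH ht).1 ha.1]
    exact ha.2 t ht, c, rfl⟩

end Tor

variable (k : Type) [Field k] [CharP k 2] [IsAlgClosed k] [PerfectRing k 2]

/-- **G5.** -/
theorem cent_hyp (hk : LocFin k) {H L : Subgroup ↥(chevE8.group k)} (hH : H ≤ E5 k) (hH1 : Nat.card H = 125)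
    (hL : L ≤ H865.EE.GG k) (hL1 : ⁅L, L⁆ = L) (hL2 : L ≠ ⊥) (hLH : ∀ x ∈ L, ∀ h ∈ H, x * h = h * x) :
    ∃ a, Rt a ∧ (∀ t ∈ E5 k, t ∈ H ↔ cX tp8 t a = 1) ∧ L ≤ KK k {a, -a, act w8 a, -act w8 a} := by
  obtain ⟨a, ha, hat⟩ : ∃ a, Rt a ∧ ∀ t ∈ H, cX tp8 t a = 1 := by
    by_contra hcon
    push Not at hcon
    apply hL2
    have h1 : L ≤ KK k ∅ := perfect_le hk hH hL1 hLH fun a ha h => by
      obtain ⟨t, ht, hne⟩ := hcon a ha
      exact absurd (h t ht) hne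
    rw [eq_bot_iff]
    refine h1.trans ?_
    unfold KK
    rw [Subgroup.closure_le]
    rintro _ ⟨a, ha, -⟩
    exact absurd ha (Set.notMem_empty a)
  refine ⟨a, ha, fun t ht => ?_, perfect_le hk hH hL1 hLH fun b hb h => roots_unique hk hH hH1 ha hat hb h⟩
  have h1 := eq_KX hk hH hH1 ha hat
  constructor
  · exact fun h => hat t h
  · intro h
    rw [h1]
    exact ⟨ht, h⟩

end Cfsg.Agent.H185.EE
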