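import Cfsg.Agent.H865.EE.Base

/-!
# The lattice of `E₈` modulo `w8 - 2` (helper185, S3384)

`fE = w8 - 2`, `det_fE : |det fE| = 625`, `eq_of_sub_eq` : distinct roots are not congruent modulo `w8 - 2`,
`root_ne_fE` : roots are not in the image.
-/

set_option autoImplicit false
set_option linter.unusedSectionVars false

namespace Cfsg.Agent.H185.EE

set_option backward.isDefEq.respectTransparency false in
theorem e8_ne : ∀ i j : Fin 8, CoxeterMatrix.E₈ i j ≠ 4 ∧ CoxeterMatrix.E₈ i j ≠ 6 := by decide +kernel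

open CoxeterSystem Subgroup Cfsg Cfsg.Lie Cfsg.Lie.ChevalleyDatum
open Cfsg.Agent.ChevalleyStructure Cfsg.Agent.ChevalleyStructure.Elts Cfsg.Agent.ChevalleyStructure.CoxeterGeom
  Cfsg.Agent.ChevalleyStructure.CoxeterGeomTypes Cfsg.Agent.ChevalleyStructure.NPerm
open Cfsg.Agent.Tits.Roots Cfsg.Agent.Tits.Core Cfsg.Agent.Nodes Cfsg.Agent.Nodes.SubComb Cfsg.Agent.Nodes.Reps Cfsg.Agent.Nodes.BNOf
  Cfsg.Agent.Nodes.RGDChev Cfsg.Agent.Nodes.Bruhat Cfsg.Agent.Nodes.Coroot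
open Cfsg.Agent.KFacts.RgdField Cfsg.Agent.KFacts.RgdChevCoord Cfsg.Agent.BpExc.TorCent Cfsg.Agent.BpExc.TorChev
open Cfsg.Agent.GpExc.Field Cfsg.Agent.BpExc.Tow Cfsg.Agent.BpExc.TowChev Cfsg.Agent.BpExc.Fr
  Cfsg.Agent.BpExc.LangFr Cfsg.Agent.BpExc.FamField Cfsg.Agent.BpExc.FamInst Cfsg.Agent.H129.TorusChar
  Cfsg.Agent.H795.LangT Cfsg.Agent.BpExc.FamExt Cfsg.Agent.BpExc.FamUntw Cfsg.Agent.H378.TorDual Cfsg.Agent.H378.TorChar
  Cfsg.Agent.H378.TorFin Cfsg.Agent.H378.RankOne Cfsg.Agent.H378.RootTor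
open Cfsg.Agent.H865.EE

/-! ### the lattice -/

/-- `v - 2` -/
noncomputable def fV (v : W8) : Module.End ℤ (Fin 8 → ℤ) :=
  rep cs8 tp8.isCartan v - ((2 ^ 1 : ℕ) : ℤ) • (1 : Module.End ℤ (Fin 8 → ℤ))

theorem fV_apply (v : W8) (x : Fin 8 → ℤ) : fV v x = act v x - (2 : ℤ) • x := by
  unfold fV
  rw [LinearMap.sub_apply, LinearMap.smul_apply, Module.End.one_apply]
  norm_num

theorem rt_act {a : Fin 8 → ℤ} (ha : Rt a) (v : W8) : Rt (act v a) := ha.act v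

/-- `w8 - 2` -/
noncomputable def fE : Module.End ℤ (Fin 8 → ℤ) := fV w8

theorem fE_apply (x : Fin 8 → ℤ) : fE x = act w8 x - (2 : ℤ) • x := fV_apply w8 x

theorem bf_w8_self (y : Fin 8 → ℤ) : bf (act w8 y) y = 0 := by
  have h1 := bf_act w8 (act w8 y) y
  rw [w8_sq, bf_neg_left, bf_comm y] at h1
  omega

theorem bf_fE (y : Fin 8 → ℤ) : bf (fE y) (fE y) = 5 * bf y y := by
  have h1 := bf_w8_self y
  have h2 : bf y (act w8 y) = 0 := by rw [bf_comm, h1]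
  rw [fE_apply, bf_sub_left, bf_sub_right, bf_sub_right, bf_act, bf_smul_left, bf_smul_right, bf_smul_right,
    bf_smul_left, h1, h2]
  ring

theorem bf_even (y : Fin 8 → ℤ) : ∃ m, bf y y = 2 * m := by
  refine ⟨y 0 * y 0 + y 1 * y 1 + y 2 * y 2 + y 3 * y 3 + y 4 * y 4 + y 5 * y 5 + y 6 * y 6 + y 7 * y 7 - y 0 * y 2 -
    y 1 * y 3 - y 2 * y 3 - y 3 * y 4 - y 4 * y 5 - y 5 * y 6 - y 6 * y 7, ?_⟩
  unfold bf C8
  simp [Fin.sum_univ_eight]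
  ring

/-- the matrix of `w8 - 2` -/
def FM : Matrix (Fin 8) (Fin 8) ℤ := Matrix.of fun i j => WM i j - if i = j then 2 else 0

theorem toMatrix_fE : LinearMap.toMatrix' fE = FM := by
  ext i j
  rw [LinearMap.toMatrix'_apply, fE_apply]
  have h1 : (Pi.single j 1 : Fin 8 → ℤ) = sr j := by
    funext j'
    by_cases h : j' = j
    · rw [h, sr_self, Pi.single_eq_same]
    · rw [sr_ne h, Pi.single_eq_of_ne h]
  rw [h1, Pi.sub_apply, act_w8_sr, Pi.smul_apply, smul_eq_mul]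
  show _ = WM i j - if i = j then 2 else 0
  by_cases h : i = j
  · rw [if_pos h, h, sr_self, mul_one]
  · rw [if_neg h, sr_ne h, mul_zero]

def PM : Matrix (Fin 8) (Fin 8) ℤ := !![1, 0, 0, 0, 0, 0, 0, 0; 2, 1, 0, 0, 0, 0, 0, 0; 4, 1, 1, 0, 0, 0, 0, 0; -5, -1, -3, 1, 0, 0, 0, 0; 6, 1, 2, -1, 0, 1, 0, 0; -1, 0, 0, 0, 0, -1, 1, 0; 2, 1, -1, -1, 1, -2, 4, 0; -3, -2, 0, 0, -1, 5, -6, 1]
def PMi : Matrix (Fin 8) (Fin 8) ℤ := !![1, 0, 0, 0, 0, 0, 0, 0; -2, 1, 0, 0, 0, 0, 0, 0; -2, -1, 1, 0, 0, 0, 0, 0; -3, -2, 3, 1, 0, 0, 0, 0; -3, -2, 2, -1, -2, -4, 1, 0; -3, -1, 1, 1, 1, 0, 0, 0; -2, -1, 1, 1, 1, 1, 0, 0; -1, -1, 3, 0, -1, 2, 1, 1]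
def QM : Matrix (Fin 8) (Fin 8) ℤ := !![1, 0, 0, 0, 0, -2, 0, 0; 0, 1, -1, 0, 2, -1, -1, 1; 0, 0, 0, 0, 1, -4, 0, 0; 0, 0, 0, 0, 0, 0, 0, 1; 0, 0, 0, 1, -6, 8, 3, 0; 0, 0, 0, 0, 0, 1, 1, 0; 0, 0, 0, 0, 0, 0, 1, 0; 0, 0, 1, 0, -2, -5, 2, -2]
def QMi : Matrix (Fin 8) (Fin 8) ℤ := !![1, 0, 0, 0, 0, 2, -2, 0; 0, 1, 0, 1, 0, 6, -7, 1; 0, 0, 2, 2, 0, 13, -15, 1; 0, 0, 6, 0, 1, 16, -19, 0; 0, 0, 1, 0, 0, 4, -4, 0; 0, 0, 0, 0, 0, 1, -1, 0; 0, 0, 0, 0, 0, 0, 1, 0; 0, 0, 0, 1, 0, 0, 0, 0]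
def dM : Fin 8 → ℤ := ![-1, -1, -1, 1, -5, 5, -5, 5]

theorem natAbs_det_of {n : ℕ} {A P P' Q Q' : Matrix (Fin n) (Fin n) ℤ} {d : Fin n → ℤ}
    (h1 : P * A * Q = Matrix.diagonal d) (h2 : P * P' = 1) (h3 : Q * Q' = 1) :
    A.det.natAbs = (∏ i, d i).natAbs := by
  have h4 := congrArg Matrix.det h1
  rw [Matrix.det_mul, Matrix.det_mul, Matrix.det_diagonal] at h4
  have h5 := congrArg Matrix.det h2
  rw [Matrix.det_mul, Matrix.det_one] at h5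
  have h6 := congrArg Matrix.det h3
  rw [Matrix.det_mul, Matrix.det_one] at h6
  have h8 := congrArg Int.natAbs h4
  rw [Int.natAbs_mul, Int.natAbs_mul] at h8
  have h9 := congrArg Int.natAbs h5
  rw [Int.natAbs_mul, Int.natAbs_one] at h9
  have h10 := congrArg Int.natAbs h6
  rw [Int.natAbs_mul, Int.natAbs_one] at h10
  have h11 : P.det.natAbs = 1 := Nat.eq_one_of_mul_eq_one_right h9
  have h12 : Q.det.natAbs = 1 := Nat.eq_one_of_mul_eq_one_right h10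
  rw [h11, h12, one_mul, mul_one] at h8
  exact h8

theorem det_FM : (FM.det).natAbs = 625 := by
  have h1 : PM * FM * QM = Matrix.diagonal dM := by
    ext i j
    rw [Matrix.mul_apply, Matrix.diagonal_apply]
    simp only [Matrix.mul_apply]
    revert i j
    decide +kernel
  have h2 : PM * PMi = 1 := by
    ext i j
    rw [Matrix.mul_apply, Matrix.one_apply]
    revert i j
    decide +kernel
  have h3 : QM * QMi = 1 := by
    ext i j
    rw [Matrix.mul_apply, Matrix.one_apply]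
    revert i j
    decide +kernel
  have h7 : (∏ i, dM i).natAbs = 625 := by decide +kernel
  rw [natAbs_det_of h1 h2 h3, h7]

theorem det_fE : (LinearMap.det fE).natAbs = 625 := by
  rw [← LinearMap.det_toMatrix', toMatrix_fE, det_FM]

/-- distinct roots are not congruent modulo `w8 - 2` -/
theorem eq_of_sub_eq {b c y : Fin 8 → ℤ} (hb : Rt b) (hc : Rt c) (h : b - c = fE y) : b = c := by
  by_contra hne
  obtain ⟨m, hm⟩ := bf_even y
  have h1 : bf (b - c) (b - c) = 10 * m := by rw [h, bf_fE, hm]; ring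
  have h2 : bf (b - c) (b - c) = 4 - 2 * bf b c := by
    rw [bf_sub_left, bf_sub_right, bf_sub_right, bf_self hb, bf_self hc, bf_comm c b]; ring
  by_cases h3 : b = -c
  · have h4 : bf b c = -2 := by rw [h3, bf_neg_left, bf_self hc]
    omega
  · have h4 := Cfsg.Agent.Nodes.SimplyLaced.abs_cpr_le_one cs8 tp8.isCartan (fun i j => (e8_ne i j).1) (fun i j => (e8_ne i j).2) hb hc
      hne h3
    rw [cpr_eq b hc, abs_le] at h4
    omega

/-- roots are not in the image of `w8 - 2` -/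
theorem root_ne_fE {b y : Fin 8 → ℤ} (hb : Rt b) (h : b = fE y) : False := by
  have h1 := bf_fE y
  rw [← h, bf_self hb] at h1
  omega

end Cfsg.Agent.H185.EE
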